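import Mathlib

/-!
# Unramified schemes over a field
-/

set_option autoImplicit false
set_option backward.isDefEq.respectTransparency false
set_option linter.style.haveILetI false

universe u

open CategoryTheory CategoryTheory.Limits AlgebraicGeometry TopologicalSpace

namespace Groth.Agent.UnrField

instance comp_isOpenImmersion {A B C : Scheme.{u}} (a : A ⟶ B) (b : B ⟶ C) [IsOpenImmersion a]
    [FormallyUnramified b] : FormallyUnramified (a ≫ b) :=
  MorphismProperty.comp_mem _ _ _ inferInstance ‹_›

variable (k : Type u) [Field k] {X : Scheme.{u}} (f : X ⟶ Spec (CommRingCat.of k))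

/-- An affine unramified `k`-scheme of finite type has finite reduced coordinate ring. -/
lemma finite_isReduced {R : Type u} [CommRing R] [Algebra k R] [Algebra.FiniteType k R]
    [Algebra.FormallyUnramified k R] : Module.Finite k R ∧ _root_.IsReduced R :=
  ⟨Algebra.FormallyUnramified.finite_of_free k R, Algebra.FormallyUnramified.isReduced_of_field k R⟩

/-- The algebra structure on the global functions of an affine `k`-scheme. -/
lemma exists_algebra (Z : Scheme.{u}) [IsAffine Z] (g : Z ⟶ Spec (CommRingCat.of k))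
    [FormallyUnramified g] [LocallyOfFiniteType g] :
    ∃ _ : Algebra k Γ(Z, ⊤), Algebra.FiniteType k Γ(Z, ⊤) ∧ Algebra.FormallyUnramified k Γ(Z, ⊤) ∧
      Z.isoSpec.inv ≫ g = Spec.map (CommRingCat.ofHom (algebraMap k Γ(Z, ⊤))) := by
  let φ : CommRingCat.of k ⟶ Γ(Z, ⊤) := (Scheme.ΓSpecIso _).inv ≫ g.appTop
  letI : Algebra k Γ(Z, ⊤) := φ.hom.toAlgebra
  have hiso : Z.isoSpec.inv ≫ g = Spec.map φ := by
    rw [Iso.inv_comp_eq]
    simp [φ, Scheme.isoSpec, ← Scheme.toSpecΓ_naturality_assoc]
  haveI : FormallyUnramified (Spec.map φ) := hiso ▸ inferInstance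
  haveI : LocallyOfFiniteType (Spec.map φ) := hiso ▸ inferInstance
  refine ⟨φ.hom.toAlgebra, ?_, ?_, hiso⟩
  · exact RingHom.finiteType_algebraMap.1 ((HasRingHomProperty.Spec_iff (P := @LocallyOfFiniteType)).1 ‹_›)
  · exact RingHom.formallyUnramified_algebraMap.1
      ((HasRingHomProperty.Spec_iff (P := @FormallyUnramified)).1 ‹_›)

variable [FormallyUnramified f] [LocallyOfFiniteType f]

include f in
lemma discreteTopology : DiscreteTopology X := by
  haveI : IsLocallyArtinian X := by
    rw [isLocallyArtinian_iff_of_isOpenCover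
      (U := fun U : X.affineOpens => U.1) (.mk (iSup_affineOpens_eq_top X)) (fun U => U.2)]
    intro U
    haveI := U.2
    obtain ⟨_, h₁, h₂, -⟩ := exists_algebra k U.1 (U.1.ι ≫ f)
    haveI := (finite_isReduced k (R := Γ(U.1, ⊤))).1
    haveI : IsArtinianRing Γ(U.1, ⊤) := IsArtinianRing.of_finite k _
    exact (U.1.topIso.commRingCatIsoToRingEquiv).surjective.isArtinianRing
  infer_instance

/-- An unramified `k`-scheme of finite type is a disjoint union of finite separable points. -/
theorem exists_iso_coproduct :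
    ∃ (ι : Type u) (K : ι → Type u) (_ : ∀ i, Field (K i)) (_ : ∀ i, Algebra k (K i)),
      (∀ i, FiniteDimensional k (K i) ∧ Algebra.IsSeparable k (K i)) ∧
      ∃ e : X ≅ ∐ (fun i => Spec (CommRingCat.of (K i))),
        e.hom ≫ Limits.Sigma.desc (fun i => Spec.map (CommRingCat.ofHom (algebraMap k (K i)))) = f := by
  haveI := discreteTopology k f
  let U : X → X.Opens := fun x => ⟨{x}, isOpen_discrete _⟩
  haveI : ∀ x, Subsingleton (U x) := fun x => inferInstanceAs (Subsingleton ({x} : Set X))
  haveI : ∀ x, Nonempty (U x) := fun x => ⟨⟨x, rfl⟩⟩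
  haveI : ∀ x, DiscreteTopology (U x) := fun x => inferInstanceAs (DiscreteTopology ({x} : Set X))
  haveI : ∀ x, IsAffine (U x) := fun x => inferInstance
  choose alg hft hfu hmap using fun x => exists_algebra k (U x) ((U x).ι ≫ f)
  have hred : ∀ x, _root_.IsReduced Γ(U x, ⊤) := fun x => by
    letI := alg x
    haveI := hft x
    haveI := hfu x
    exact (finite_isReduced k).2
  have hfld : ∀ x, IsField Γ(U x, ⊤) := fun x => by
    haveI := hred x
    haveI : IsReduced (Spec Γ(U x, ⊤)) := inferInstance
    haveI : IsReduced (U x) := isReduced_of_isOpenImmersion (U x).toScheme.isoSpec.hom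
    haveI : IrreducibleSpace (U x) := ⟨inferInstance⟩
    haveI : IsIntegral (U x) := isIntegral_of_irreducibleSpace_of_isReduced _
    exact isField_of_isIntegral_of_subsingleton _
  let fld : ∀ x, Field Γ(U x, ⊤) := fun x => (hfld x).toField
  refine ⟨X, fun x => Γ(U x, ⊤), fld, alg, fun x => ?_, ?_⟩
  · letI := alg x
    haveI := hft x
    haveI := hfu x
    letI := fld x
    exact ⟨Algebra.FormallyUnramified.finite_of_free k _, Algebra.FormallyUnramified.isSeparable k _⟩
  let j : ∀ x, Spec (CommRingCat.of Γ(U x, ⊤)) ⟶ X := fun x => (U x).toScheme.isoSpec.inv ≫ (U x).ι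
  have hr : ∀ x, (j x).opensRange = U x := fun x => by
    rw [Scheme.Hom.opensRange_comp_of_isIso, Scheme.Opens.opensRange_ι]
  obtain ⟨hc⟩ := nonempty_isColimit_cofanMk_of j
    (top_unique fun x _ => Opens.mem_iSup.2 ⟨x, (hr x).ge rfl⟩)
    (fun x y hxy => by
      simp only [Function.onFun, hr]
      rw [disjoint_iff]
      exact Opens.ext (Set.eq_empty_of_forall_notMem fun z hz => hxy (hz.1.symm.trans hz.2)))
  let e := hc.coconePointUniqueUpToIso (colimit.isColimit _)
  refine ⟨e, ?_⟩
  refine hc.hom_ext fun ⟨x⟩ => ?_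
  rw [IsColimit.comp_coconePointUniqueUpToIso_hom_assoc]
  simp only [colimit.cocone_ι, Limits.Sigma.desc, colimit.ι_desc]
  show Spec.map _ = j x ≫ f
  rw [Category.assoc, hmap x]

omit f in
/-- Conversely. -/
theorem of_coproduct {ι : Type u} (K : ι → Type u) [∀ i, Field (K i)] [∀ i, Algebra k (K i)]
    (h : ∀ i, FiniteDimensional k (K i) ∧ Algebra.IsSeparable k (K i)) :
    FormallyUnramified (Limits.Sigma.desc (fun i => Spec.map (CommRingCat.ofHom (algebraMap k (K i))))) ∧
      LocallyOfFiniteType
        (Limits.Sigma.desc (fun i => Spec.map (CommRingCat.ofHom (algebraMap k (K i))))) := by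
  refine ⟨IsZariskiLocalAtSource.sigmaDesc fun i => ?_, IsZariskiLocalAtSource.sigmaDesc fun i => ?_⟩
  · haveI := (h i).2
    exact (HasRingHomProperty.Spec_iff (P := @FormallyUnramified)).2
      (RingHom.formallyUnramified_algebraMap.2 (Algebra.FormallyUnramified.of_isSeparable k (K i)))
  · haveI := (h i).1
    exact (HasRingHomProperty.Spec_iff (P := @LocallyOfFiniteType)).2
      (RingHom.finiteType_algebraMap.2 inferInstance)

end Groth.Agent.UnrField
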